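import Cfsg.Agent.H367.Rec.Defs
import Cfsg.Agent.H395.Coclique
import Cfsg.Agent.Lib.MinNormalNonabelian
import Cfsg.Agent.Lib.CoprimeHyperplane
import Cfsg.Agent.Lib.Cores
import Cfsg.Agent.Lib.SylowNormalInf
import Cfsg.Agent.S0126

/-!
# Recognition of `A_n`, `S_n` by spectrum: tools for the structure theorem (helper334, task 2194)

* `Amb n X` : the primes of `|X|` are `≤ n` and adjacent primes have sum `≤ n`;
* `OutPrime` : the statement `out_prime`;
* `cent_of_norm` : a `q`-element, `q` big, normalising the simple group `T`, `q ∤ |T|`, centralises it;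
* `frat` : Frattini argument with two commuting elements of order `p`;
* `mem_normalizer` : the product trick; `exists_simple` : simple normal subgroup of a minimal normal subgroup.
-/

set_option autoImplicit false

open Subgroup

universe u

namespace Cfsg.Agent.H334.Rec

open Cfsg Cfsg.Agent.H395.Coclique

/-- the primes of `|X|` are `≤ n`, adjacent primes have sum `≤ n` -/
structure Amb (n : ℕ) (X : Type*) [Group X] : Prop where
  pr : ∀ q : ℕ, q.Prime → q ∣ Nat.card X → q ≤ n
  adj : ∀ p q : ℕ, p.Prime → q.Prime → p ≠ q → (∃ x : X, orderOf x = p * q) → p + q ≤ n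

section

variable {n : ℕ} {X : Type*} [Group X]

theorem Amb.sub (h : Amb n X) (H : Subgroup X) : Amb n ↥H where
  pr q hq hd := h.pr q hq (hd.trans (card_subgroup_dvd_card H))
  adj p q hp hq hpq := by
    rintro ⟨x, hx⟩
    exact h.adj p q hp hq hpq ⟨x, by rw [orderOf_coe, hx]⟩

theorem exists_of_dvd [Finite X] {x : X} {k : ℕ} (hk : k ∣ orderOf x) : ∃ y : X, orderOf y = k := by
  have h0 : 0 < orderOf x := orderOf_pos x
  obtain ⟨m, hm⟩ := hk
  have hm0 : m ≠ 0 := by rintro rfl; omega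
  refine ⟨x ^ m, ?_⟩
  rw [orderOf_pow_of_dvd hm0 (Dvd.intro_left k hm.symm), hm]
  exact Nat.mul_div_cancel _ (Nat.pos_of_ne_zero hm0)

theorem Amb.of_surj [Finite X] {Y : Type*} [Group Y] (h : Amb n X) (f : X →* Y) (hf : Function.Surjective f) : Amb n Y where
  pr q hq hd := h.pr q hq (hd.trans (Subgroup.card_dvd_of_surjective f hf))
  adj p q hp hq hpq := by
    rintro ⟨x, hx⟩
    obtain ⟨g, rfl⟩ := hf x
    have h1 : p * q ∣ orderOf g := hx ▸ orderOf_map_dvd f g
    exact h.adj p q hp hq hpq (exists_of_dvd h1)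

theorem Amb.quot [Finite X] (h : Amb n X) (N : Subgroup X) [N.Normal] : Amb n (X ⧸ N) :=
  h.of_surj (QuotientGroup.mk' N) (QuotientGroup.mk'_surjective N)

theorem Amb.comm (h : Amb n X) {p q : ℕ} (hp : p.Prime) (hq : q.Prime) (hpq : p ≠ q) {a b : X}
    (ha : orderOf a = p) (hb : orderOf b = q) (hab : a * b = b * a) : p + q ≤ n :=
  h.adj p q hp hq hpq (exists_mul_of_commute hp hq hpq ha hb hab)

theorem exists_ord [Finite X] {H : Subgroup X} {p : ℕ} (hp : p.Prime) (hd : p ∣ Nat.card H) :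
    ∃ x ∈ H, orderOf x = p := by
  have := Fact.mk hp
  obtain ⟨x, hx⟩ := exists_prime_orderOf_dvd_card' (G := H) p hd
  exact ⟨x, x.2, by rw [orderOf_coe, hx]⟩

theorem Amb.commP [Finite X] (h : Amb n X) {p q : ℕ} (hp : p.Prime) (hq : q.Prime) (hpq : p ≠ q) {A B : Subgroup X}
    (ha : p ∣ Nat.card A) (hb : q ∣ Nat.card B) (hab : ∀ a ∈ A, ∀ b ∈ B, a * b = b * a) : p + q ≤ n := by
  obtain ⟨a, ha1, ha2⟩ := exists_ord hp ha
  obtain ⟨b, hb1, hb2⟩ := exists_ord hq hb
  exact h.comm hp hq hpq ha2 hb2 (hab a ha1 b hb1)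

end

/-- the statement `out_prime` -/
def OutPrime : Prop := ∀ (Q : Type u) [Group Q] [Finite Q] (S : Subgroup Q) [S.Normal], IsSimpleGroup ↥S →
  ¬ IsMulCommutative ↥S → centralizer (S : Set Q) = ⊥ → ∀ p : ℕ, p.Prime → 5 ≤ p → p ∣ S.index →
    ∃ q : ℕ, q.Prime ∧ q ∣ Nat.card ↥S ∧ 2 * p + 1 ≤ q

structure Big (n q : ℕ) : Prop where
  prime : q.Prime
  five : 5 ≤ q
  big : ∀ r : ℕ, r.Prime → 2 * q + 1 ≤ r → n < r

section

variable {n : ℕ}

theorem eq_one_of_cent {X : Type*} [Group X] {T : Subgroup X} (hT : IsSimpleGroup ↥T) (hna : ¬ IsMulCommutative ↥T)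
    {x : X} (hx : x ∈ T) (hc : ∀ t ∈ T, x * t = t * x) : x = 1 := by
  rcases Lib.MinNormalNonabelian.commute_or_center_trivial (T := ↥T) with h | h
  · exact absurd ⟨⟨fun a b => h a b⟩⟩ hna
  · exact congrArg Subtype.val (h ⟨x, hx⟩ fun t => Subtype.ext (hc t t.2))

/-- the normal case -/
theorem cent_of_norm_aux (hout : OutPrime.{u}) {H : Type u} [Group H] [Finite H] (hH : Amb n H) (T : Subgroup H)
    [T.Normal] (hT : IsSimpleGroup ↥T) (hna : ¬ IsMulCommutative ↥T) {q : ℕ} (hq : Big n q)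
    (hqT : ¬ q ∣ Nat.card ↥T) {y : H} (hy : orderOf y = q) : y ∈ centralizer (T : Set H) := by
  by_contra hyC
  have hprime := hq.prime
  set C := centralizer (T : Set H) with hC
  have hCn : C.Normal := inferInstance
  let f := QuotientGroup.mk' C
  have hf : Function.Surjective f := QuotientGroup.mk'_surjective C
  have hker : ∀ x, f x = 1 ↔ x ∈ C := fun x => QuotientGroup.eq_one_iff x
  have hinj : Function.Injective (f.subgroupMap T) := by
    rw [← MonoidHom.ker_eq_bot_iff, eq_bot_iff]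
    intro x hx
    have h1 : f (x : H) = 1 := congrArg Subtype.val hx
    have h2 := (hker _).1 h1
    exact Subtype.ext (eq_one_of_cent hT hna x.2 fun t ht => ((mem_centralizer_iff.1 h2) t ht).symm)
  let e : ↥T ≃* ↥(T.map f) := MulEquiv.ofBijective (f.subgroupMap T) ⟨hinj, f.subgroupMap_surjective T⟩
  have hSn : (T.map f).Normal := Subgroup.Normal.map inferInstance f hf
  have hS : IsSimpleGroup ↥(T.map f) := (e.isSimpleGroup_congr).1 hT
  have hSna : ¬ IsMulCommutative ↥(T.map f) := by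
    intro h
    apply hna
    refine ⟨⟨fun a b => e.injective ?_⟩⟩
    rw [map_mul, map_mul]
    exact h.is_comm.comm _ _
  have hcard : Nat.card ↥(T.map f) = Nat.card T := Nat.card_congr e.symm.toEquiv
  have hcent : centralizer ((T.map f : Subgroup (H ⧸ C)) : Set (H ⧸ C)) = ⊥ := by
    rw [eq_bot_iff]
    intro c hc
    obtain ⟨c, rfl⟩ := hf c
    rw [mem_bot, hker, hC, mem_centralizer_iff]
    intro t ht
    have h1 : f t * f c = f c * f t := mem_centralizer_iff.1 hc (f t) ⟨t, ht, rfl⟩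
    have h2 : c * t * c⁻¹ * t⁻¹ ∈ C := by
      rw [← hker, map_mul, map_mul, map_mul, map_inv, map_inv, ← h1]
      group
    have h3 : c * t * c⁻¹ * t⁻¹ ∈ T := T.mul_mem (Subgroup.Normal.conj_mem inferInstance t ht c) (T.inv_mem ht)
    have h4 := eq_one_of_cent hT hna h3 fun s hs => ((mem_centralizer_iff.1 h2) s hs).symm
    calc t * c = (c * t * c⁻¹ * t⁻¹)⁻¹ * (c * t) := by group
      _ = c * t := by rw [h4]; group
  have hfy : orderOf (f y) = q := by
    have := Fact.mk hprime
    apply orderOf_eq_prime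
    · rw [← map_pow, ← hy, pow_orderOf_eq_one, map_one]
    · intro h
      exact hyC ((hker y).1 h)
  have hdvd : q ∣ Nat.card (H ⧸ C) := hfy ▸ orderOf_dvd_natCard (f y)
  rw [← (T.map f).card_mul_index, hcard] at hdvd
  have hidx := (hprime.dvd_mul.1 hdvd).resolve_left hqT
  obtain ⟨r, hr, hrS, hr2⟩ := hout (H ⧸ C) (T.map f) hS hSna hcent q hprime hq.five hidx
  rw [hcard] at hrS
  have h5 := hH.pr r hr (hrS.trans (card_subgroup_dvd_card T))
  have h6 := hq.big r hr hr2
  omega


/-- an element of big prime order `q ∤ |T|` normalising the simple group `T` centralises it -/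
theorem cent_of_norm (hout : OutPrime.{u}) {X : Type u} [Group X] [Finite X] (hX : Amb n X) {T : Subgroup X}
    (hT : IsSimpleGroup ↥T) (hna : ¬ IsMulCommutative ↥T) {q : ℕ} (hq : Big n q) (hqT : ¬ q ∣ Nat.card ↥T) {y : X}
    (hy : orderOf y = q) (hyT : y ∈ normalizer (T : Set X)) : y ∈ centralizer (T : Set X) := by
  let H := normalizer (T : Set X)
  let e : ↥(T.subgroupOf H) ≃* ↥T := subgroupOfEquivOfLe T.le_normalizer
  have hn : (T.subgroupOf H).Normal := inferInstance
  have h1 : IsSimpleGroup ↥(T.subgroupOf H) := (e.isSimpleGroup_congr).2 hT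
  have h2 : ¬ IsMulCommutative ↥(T.subgroupOf H) := by
    intro h
    apply hna
    refine ⟨⟨fun a b => e.symm.injective ?_⟩⟩
    rw [map_mul, map_mul]
    exact h.is_comm.comm _ _
  have h3 : ¬ q ∣ Nat.card ↥(T.subgroupOf H) := by
    rwa [Nat.card_congr e.toEquiv]
  have h4 : orderOf (⟨y, hyT⟩ : H) = q := by rw [← hy, orderOf_mk]
  have h5 := cent_of_norm_aux hout (hX.sub H) (T.subgroupOf H) h1 h2 hq h3 h4
  rw [mem_centralizer_iff]
  intro t ht
  exact congrArg Subtype.val (mem_centralizer_iff.1 h5 ⟨t, T.le_normalizer ht⟩ (mem_subgroupOf.2 ht))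

end

section

variable {n : ℕ} {X : Type*} [Group X]

/-- distinct conjugates of `T` commute -/
theorem commute_conj [Finite X] {M : Subgroup X} [hMn : M.Normal] {T : Subgroup X} (hT : IsSimpleGroup ↥T) (hTM : T ≤ M)
    (hMT : M ≤ normalizer (T : Set X)) {g : X} (hg : g ∉ normalizer (T : Set X)) :
    ∀ a ∈ T, ∀ b ∈ T, a * (g * b * g⁻¹) = (g * b * g⁻¹) * a := by
  set S := T.map (MulAut.conj g).toMonoidHom with hS
  have hmem : ∀ b ∈ T, g * b * g⁻¹ ∈ S := fun b hb => ⟨b, hb, rfl⟩
  have hSM : S ≤ M := by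
    rintro _ ⟨b, hb, rfl⟩
    exact hMn.conj_mem b (hTM hb) g
  have hMS : M ≤ normalizer (S : Set X) := Lib.MinNormal.le_normalizer_map_conj hMT g
  have hcard : Nat.card S = Nat.card T := card_map_of_injective (MulAut.conj g).injective
  have hne : T ≠ S := by
    intro h
    apply hg
    rw [mem_normalizer_iff_map_conj_eq]
    exact h.symm
  have hd : Disjoint T S := by
    have h1 : ((T ⊓ S).subgroupOf T).Normal := by
      constructor
      intro k hk s
      rw [mem_subgroupOf] at hk ⊢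
      exact ⟨T.mul_mem (T.mul_mem s.2 hk.1) (T.inv_mem s.2), (mem_normalizer_iff.1 (hMS (hTM s.2)) _).1 hk.2⟩
    rcases h1.eq_bot_or_eq_top with h2 | h2
    · rw [disjoint_iff, eq_bot_iff]
      intro x hx
      have h3 : (⟨x, hx.1⟩ : T) ∈ (T ⊓ S).subgroupOf T := mem_subgroupOf.2 hx
      rw [h2, mem_bot] at h3
      exact congrArg Subtype.val h3
    · exfalso
      apply hne
      apply eq_of_le_of_card_ge _ hcard.le
      intro x hx
      have h3 : (⟨x, hx⟩ : T) ∈ (T ⊓ S).subgroupOf T := h2 ▸ mem_top _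
      exact (mem_subgroupOf.1 h3).2
  intro a ha b hb
  exact (Lib.MinNormal.commute_of_disjoint (hTM.trans hMS) (hSM.trans hMT) hd ha (hmem b hb)).eq

/-- the product trick: an element of order `q` normalises `T` -/
theorem mem_normalizer_of [Finite X] (hX : Amb n X) {M : Subgroup X} [hMn : M.Normal] {T : Subgroup X}
    (hT : IsSimpleGroup ↥T) (hna : ¬ IsMulCommutative ↥T) (hTM : T ≤ M) (hMT : M ≤ normalizer (T : Set X)) {p q : ℕ}
    (hp : p.Prime) (hq : q.Prime) (hpq : p ≠ q) (hn : n < p + q) (hpT : p ∣ Nat.card T) (hqM : ¬ q ∣ Nat.card M) {y : X}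
    (hy : orderOf y = q) : y ∈ normalizer (T : Set X) := by
  by_contra hyT
  obtain ⟨t, ht, htp⟩ := exists_ord hp hpT
  have hyq : y ^ q = 1 := by rw [← hy, pow_orderOf_eq_one]
  -- the powers of `y`
  have hpow : ∀ k, 0 < k → k < q → y ^ k ∉ normalizer (T : Set X) := by
    intro k hk0 hk h
    apply hyT
    have hco : Nat.Coprime (orderOf y) k := by
      rw [hy]
      exact Nat.coprime_of_lt_prime hk0.ne' hk hq
    obtain ⟨m, hm⟩ := exists_pow_eq_self_of_coprime (n := k) (x := y) hco.symm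
    rw [← hm]
    exact pow_mem h m
  -- the product
  have hprod : ∀ k, k < q → ∃ w ∈ centralizer (T : Set X), (t * y) ^ (k + 1) = t * w * y ^ (k + 1) := by
    intro k
    induction k with
    | zero => intro _; exact ⟨1, one_mem _, by simp⟩
    | succ k ih =>
      intro hk
      obtain ⟨w, hw, he⟩ := ih (by omega)
      have h1 := commute_conj hT hTM hMT (hpow (k + 1) (by omega) hk)
      refine ⟨w * (y ^ (k + 1) * t * (y ^ (k + 1))⁻¹), mul_mem hw ?_, ?_⟩
      · rw [mem_centralizer_iff]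
        intro a ha
        exact h1 a ha t ht
      · rw [pow_succ, he, pow_succ y (k + 1)]
        group
  obtain ⟨w, hw, he⟩ := hprod (q - 1) (Nat.sub_lt hq.pos one_pos)
  rw [Nat.sub_add_cancel hq.one_lt.le, hyq, mul_one] at he
  have htw : t * w = w * t := mem_centralizer_iff.1 hw t ht
  -- `p` divides the order
  have h1 : p ∣ orderOf (t * y) := by
    have h2 : p ∣ orderOf (t * w) := by
      have h3 : (t * w) ^ orderOf (t * w) = 1 := pow_orderOf_eq_one _
      rw [(show Commute t w from htw).mul_pow] at h3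
      have h4 : t ^ orderOf (t * w) = 1 := by
        apply eq_one_of_cent hT hna (T.pow_mem ht _)
        intro s hs
        have h5 : t ^ orderOf (t * w) = (w ^ orderOf (t * w))⁻¹ := eq_inv_of_mul_eq_one_left h3
        rw [h5]
        exact ((mem_centralizer_iff.1 (inv_mem (pow_mem hw (orderOf (t * w))))) s hs).symm
      rw [← htp]
      exact orderOf_dvd_of_pow_eq_one h4
    rw [← he] at h2
    exact h2.trans (orderOf_pow_dvd q)
  -- `q` divides the order
  have h2 : q ∣ orderOf (t * y) := by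
    let f := QuotientGroup.mk' M
    have h3 : f (t * y) = f y := by
      rw [map_mul]
      have : f t = 1 := (QuotientGroup.eq_one_iff t).2 (hTM ht)
      rw [this, one_mul]
    have h4 : orderOf (f y) = q := by
      have := Fact.mk hq
      apply orderOf_eq_prime
      · rw [← map_pow, hyq, map_one]
      · intro h
        have h5 : y ∈ M := (QuotientGroup.eq_one_iff y).1 h
        apply hqM
        rw [← hy, ← orderOf_mk y h5]
        exact orderOf_dvd_natCard _
    rw [← h4, ← h3]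
    exact orderOf_map_dvd f (t * y)
  have h3 : p * q ∣ orderOf (t * y) := ((Nat.coprime_primes hp hq).2 hpq).mul_dvd_of_dvd_of_dvd h1 h2
  have h4 := hX.adj p q hp hq hpq (exists_of_dvd h3)
  omega

/-- the simple factors of a minimal normal subgroup -/
theorem exists_simple [Finite X] (M : Subgroup X) [M.Normal] (hM : M ≠ ⊥)
    (hmin : ∀ K : Subgroup X, K.Normal → K ≤ M → K = ⊥ ∨ K = M) :
    ∃ T : Subgroup X, T ≤ M ∧ IsSimpleGroup ↥T ∧ M ≤ normalizer (T : Set X) ∧
      ∀ r : ℕ, r.Prime → r ∣ Nat.card M → r ∣ Nat.card T := by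
  obtain ⟨m, T, hm, h1, h2, h3, h4, h5, h6, h7, h8⟩ := Lib.MinNormal.exists_internal_decomposition M hM hmin
  refine ⟨T ⟨0, hm⟩, h1 _, h2 _, h3 _, ?_⟩
  intro r hr hd
  obtain ⟨e⟩ := Lib.MinNormal.mulEquiv_pi_of_iSupIndep T (fun i j hij x y hx hy => h5 i j hij x hx y hy) h7 h8
  rw [Nat.card_congr e.toEquiv, Nat.card_pi] at hd
  obtain ⟨i, -, hi⟩ := (hr.prime.dvd_finsetProd_iff _).1 hd
  obtain ⟨g, hg⟩ := h4 ⟨0, hm⟩ i
  rw [hg, card_map_of_injective (MulAut.conj g).injective] at hi
  exact hi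

theorem prime_of_comm {T : Type*} [Group T] [Finite T] (hT : IsSimpleGroup T) (h : IsMulCommutative T) :
    (Nat.card T).Prime := by
  let _ : CommGroup T := { (inferInstance : Group T) with mul_comm := h.is_comm.comm }
  exact IsSimpleGroup.prime_card

theorem not_comm [Finite X] {T : Subgroup X} (hT : IsSimpleGroup ↥T) {p q : ℕ} (hp : p.Prime) (hq : q.Prime) (hpq : p ≠ q)
    (h1 : p ∣ Nat.card T) (h2 : q ∣ Nat.card T) : ¬ IsMulCommutative ↥T := by
  intro h
  have h3 := prime_of_comm hT h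
  exact hpq (((Nat.prime_dvd_prime_iff_eq hp h3).1 h1).trans ((Nat.prime_dvd_prime_iff_eq hq h3).1 h2).symm)

theorem mem_zpowers_of_isCyclic {A : Type*} [Group A] [Finite A] [IsCyclic A] {p : ℕ} (hp : 0 < p) {a b : A}
    (ha : orderOf a = p) (hb : orderOf b = p) : b ∈ zpowers a := by
  classical
  have := Fintype.ofFinite A
  have h1 : (Finset.univ.filter fun x : A => x ^ p = 1).card ≤ p := IsCyclic.card_pow_eq_one_le hp
  have h2 : (Finset.univ.filter fun x : A => x ∈ zpowers a) ⊆ Finset.univ.filter fun x : A => x ^ p = 1 := by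
    intro x hx
    rw [Finset.mem_filter] at hx ⊢
    refine ⟨Finset.mem_univ _, ?_⟩
    obtain ⟨k, rfl⟩ := mem_zpowers_iff.1 hx.2
    rw [← zpow_natCast, ← zpow_mul, mul_comm, zpow_mul, zpow_natCast, ← ha, pow_orderOf_eq_one, one_zpow]
  have h3 : (Finset.univ.filter fun x : A => x ∈ zpowers a).card = p := by
    rw [← ha, ← Nat.card_zpowers, Nat.card_eq_fintype_card]
    exact (Fintype.card_subtype _).symm
  have h4 := Finset.eq_of_subset_of_card_le h2 (by rw [h3]; exact h1)
  have h5 : b ∈ Finset.univ.filter fun x : A => x ^ p = 1 := by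
    rw [Finset.mem_filter]
    exact ⟨Finset.mem_univ _, by rw [← hb, pow_orderOf_eq_one]⟩
  rw [← h4, Finset.mem_filter] at h5
  exact h5.2

/-- Frattini's argument -/
theorem frat [Finite X] (hX : Amb n X) (N : Subgroup X) [N.Normal] {p q : ℕ} (hp : p.Prime) (hp2 : p ≠ 2) (hq : q.Prime)
    (hpq : p ≠ q) (hn : n < p + q) {a b : X ⧸ N} (ha : orderOf a = p) (hb : orderOf b = p) (hab : a * b = b * a)
    (hnb : b ∉ zpowers a) : ¬ q ∣ Nat.card N := by
  intro hqN
  have := Fact.mk hp
  have := Fact.mk hq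
  obtain ⟨P⟩ : Nonempty (Sylow q N) := inferInstance
  set Q := (P : Subgroup N).map N.subtype with hQ
  have hfr : normalizer (Q : Set X) ⊔ N = ⊤ := Sylow.normalizer_sup_eq_top P
  have hQp : IsPGroup q Q := P.isPGroup'.map _
  have hQ1 : Q ≠ ⊥ := by
    intro h
    have h1 : (P : Subgroup N) = ⊥ := (map_eq_bot_iff_of_injective _ N.subtype_injective).1 h
    exact P.ne_bot_of_dvd_card hqN h1
  let φ : normalizer (Q : Set X) →* X ⧸ N := (QuotientGroup.mk' N).comp (normalizer (Q : Set X)).subtype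
  have hφ : Function.Surjective φ := by
    intro x
    obtain ⟨x, rfl⟩ := QuotientGroup.mk'_surjective N x
    have h1 : x ∈ ((normalizer (Q : Set X) ⊔ N : Subgroup X) : Set X) := by rw [hfr]; trivial
    rw [mul_normal] at h1
    obtain ⟨y, hy, m, hm, rfl⟩ := h1
    refine ⟨⟨y, hy⟩, ?_⟩
    show QuotientGroup.mk' N y = QuotientGroup.mk' N (y * m)
    have h2 : QuotientGroup.mk' N m = 1 := (QuotientGroup.eq_one_iff m).2 hm
    rw [map_mul, h2, mul_one]
  -- the `p`-group `A = ⟨a, b⟩`
  set A := zpowers a ⊔ zpowers b with hA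
  have pa : IsPGroup p (zpowers a) := IsPGroup.of_card (n := 1) (by rw [Nat.card_zpowers, ha, pow_one])
  have pb : IsPGroup p (zpowers b) := IsPGroup.of_card (n := 1) (by rw [Nat.card_zpowers, hb, pow_one])
  have hnorm : zpowers a ≤ normalizer (zpowers b : Set (X ⧸ N)) := by
    rw [zpowers_le]
    have h5 : a ∈ centralizer (zpowers b : Set (X ⧸ N)) := by
      rw [mem_centralizer_iff]
      rintro x ⟨k, rfl⟩
      exact ((show Commute b a from hab.symm).zpow_left k).eq
    exact (Subgroup.centralizer_le_normalizer _) h5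
  have pA : IsPGroup p A := IsPGroup.to_sup_of_normal_right' pa pb hnorm
  let ψ := φ.subgroupComap A
  have hψ : Function.Surjective ψ := φ.subgroupComap_surjective_of_surjective A hφ
  obtain ⟨R⟩ : Nonempty (Sylow p (A.comap φ)) := inferInstance
  have hRt : (R : Subgroup (A.comap φ)).map ψ = ⊤ := by
    rw [← Sylow.coe_mapSurjective hψ]
    exact ((R.mapSurjective hψ).is_maximal' (Q := ⊤) (pA.of_equiv topEquiv.symm) le_top).symm
  have hRc : ¬ IsCyclic (R : Subgroup (A.comap φ)) := by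
    intro hc
    have h1 : Function.Surjective (ψ.comp (R : Subgroup (A.comap φ)).subtype) := by
      intro x
      have h2 : x ∈ (R : Subgroup (A.comap φ)).map ψ := hRt ▸ mem_top x
      obtain ⟨r, hr, rfl⟩ := h2
      exact ⟨⟨r, hr⟩, rfl⟩
    have hcA : IsCyclic A := isCyclic_of_surjective _ h1
    have haA : a ∈ A := (le_sup_left : zpowers a ≤ A) (mem_zpowers a)
    have hbA : b ∈ A := (le_sup_right : zpowers b ≤ A) (mem_zpowers b)
    have h2 : (⟨b, hbA⟩ : A) ∈ zpowers (⟨a, haA⟩ : A) :=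
      mem_zpowers_of_isCyclic hp.pos (by rw [orderOf_mk, ha]) (by rw [orderOf_mk, hb])
    obtain ⟨k, hk⟩ := mem_zpowers_iff.1 h2
    exact hnb (mem_zpowers_iff.2 ⟨k, congrArg Subtype.val hk⟩)
  obtain ⟨E, -, hE, hEc⟩ := S0126.result hp2 R.isPGroup' hRc
  -- in `X`
  let ι : (R : Subgroup (A.comap φ)) →* X :=
    ((normalizer (Q : Set X)).subtype.comp (A.comap φ).subtype).comp (R : Subgroup (A.comap φ)).subtype
  have hι : Function.Injective ι :=
    ((normalizer (Q : Set X)).subtype_injective.comp (A.comap φ).subtype_injective).comp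
      (R : Subgroup (A.comap φ)).subtype_injective
  set E' := E.map ι with hE'
  have hE'c : Nat.card E' = p ^ 2 := by rw [hE', card_map_of_injective hι, hEc]
  have hE'e : Cfsg.IsElementaryAbelian p E' := by
    obtain ⟨h1, h2⟩ := hE
    refine ⟨⟨⟨?_⟩⟩, ?_⟩
    · rintro ⟨_, x, hx, rfl⟩ ⟨_, y, hy, rfl⟩
      apply Subtype.ext
      show ι x * ι y = ι y * ι x
      rw [← map_mul, ← map_mul]
      exact congrArg ι (congrArg Subtype.val (h1.is_comm.comm ⟨x, hx⟩ ⟨y, hy⟩))
    · rintro _ ⟨x, hx, rfl⟩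
      rw [← map_pow, h2 x hx, map_one]
  have hE'Q : E' ≤ normalizer (Q : Set X) := by
    rintro _ ⟨x, -, rfl⟩
    exact (((x : (A.comap φ)) : normalizer (Q : Set X))).2
  have hE'1 : E' ≠ ⊥ := by
    intro h
    rw [h, card_bot] at hE'c
    have := Nat.one_lt_pow two_ne_zero hp.one_lt
    omega
  have hpQ : ¬ p ∣ Nat.card Q := by
    intro h
    obtain ⟨k, hk⟩ := IsPGroup.iff_card.1 hQp
    rw [hk] at h
    exact hpq ((Nat.prime_dvd_prime_iff_eq hp hq).1 (hp.dvd_of_dvd_pow h))
  have hgen := Lib.CoprimeHyperplane.iSup_centralizer_hyperplane hE'e hE'1 hpQ hE'Q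
  obtain ⟨B, hB⟩ : ∃ B : {B : Subgroup X // B ≤ E' ∧ B.relIndex E' = p},
      Q ⊓ centralizer ((B : Subgroup X) : Set X) ≠ ⊥ := by
    by_contra hno
    push Not at hno
    apply hQ1
    rw [← hgen]
    exact iSup_eq_bot.2 hno
  obtain ⟨B, hBE, hBi⟩ := B
  have hBc : Nat.card B = p := by
    have h1 : Nat.card B * B.relIndex E' = Nat.card E' := Lib.SylowNormalInf.card_mul_relIndex B E' hBE
    rw [hBi, hE'c, pow_two] at h1
    exact Nat.eq_of_mul_eq_mul_right hp.pos h1
  have hqB : q ∣ Nat.card (Q ⊓ centralizer (B : Set X) : Subgroup X) := by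
    have h1 : IsPGroup q (Q ⊓ centralizer (B : Set X) : Subgroup X) := hQp.to_le inf_le_left
    obtain ⟨k, hk⟩ := IsPGroup.iff_card.1 h1
    have hk0 : k ≠ 0 := by
      rintro rfl
      exact hB (card_eq_one.1 (by rw [hk, pow_zero]))
    rw [hk]
    exact dvd_pow_self q hk0
  have h7 := hX.commP hp hq hpq (A := B) (B := Q ⊓ centralizer (B : Set X)) (by rw [hBc]) hqB
    (fun x hx y hy => mem_centralizer_iff.1 hy.2 x hx)
  omega

end

end Cfsg.Agent.H334.Rec
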